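import Cfsg.Agent.Lib.TE.L34a
import Cfsg.Agent.Lib.BG4.MetaAct
import Cfsg.Agent.Lib.Core.CrossedHom

/-! # Sylow 2-subgroups of type `L₃(4)`: the affine case -/

set_option autoImplicit false
set_option maxHeartbeats 200000

namespace H55.Two

open Subgroup Cfsg H69 H45 Gold H55.SylT
open scoped commutatorElement

universe u
variable {G : Type u} [Group G] {F : Type*} [Field F]

theorem affine (ρ : G → F × F → F × F) (v : G → F × F) (h0 : ∀ p, ρ 1 p = p) (h0' : v 1 = 0)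
    (h1 : ∀ g p q, ρ g (p + q) = ρ g p + ρ g q) (h2 : ∀ g (c : F) p, ρ g (c • p) = c • ρ g p)
    (h3 : ∀ g g' p, ρ (g * g') p = ρ g (ρ g' p)) (h4 : ∀ g g', v (g * g') = v g + ρ g (v g'))
    (h5 : ∀ g, (∀ p, ρ g p = p) → v g = 0 → g = 1) :
    ∃ f : G →* GL (Fin 3) F ⧸ center (GL (Fin 3) F), Function.Injective f := by
  have e : ∀ g p, ρ g p = p.1 • ρ g (1, 0) + p.2 • ρ g (0, 1) := fun g p => by
    rw [← h2, ← h2, ← h1]; simp
  let M : G →* Matrix (Fin 3) (Fin 3) F :=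
    { toFun := fun g => !![(ρ g (1, 0)).1, (ρ g (0, 1)).1, (v g).1;
        (ρ g (1, 0)).2, (ρ g (0, 1)).2, (v g).2; 0, 0, 1]
      map_one' := by simp [h0, h0', Matrix.one_fin_three]
      map_mul' := fun g g' => by
        rw [h3, h3, h4, e g (ρ g' (1, 0)), e g (ρ g' (0, 1)), e g (v g'), Matrix.mul_fin_three]
        simp [mul_comm, add_comm] }
  refine ⟨(QuotientGroup.mk' _).comp M.toHomUnits, (injective_iff_map_eq_one _).2 fun g hg => ?_⟩
  obtain ⟨c, hc⟩ := Matrix.GeneralLinearGroup.mem_center_iff_val_mem_range_scalar.1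
    ((QuotientGroup.eq_one_iff _).1 hg)
  have k : ∀ i j, Matrix.scalar (Fin 3) c i j = !![(ρ g (1, 0)).1, (ρ g (0, 1)).1, (v g).1;
    (ρ g (1, 0)).2, (ρ g (0, 1)).2, (v g).2; 0, 0, 1] i j := fun i j => congrFun (congrFun hc i) j
  have k0 := k 0 0
  have k1 := k 0 1
  have k2 := k 0 2
  have k3 := k 1 0
  have k4 := k 1 1
  have k5 := k 1 2
  have k6 := k 2 2
  simp at k0 k1 k2 k3 k4 k5 k6
  refine h5 g (fun p => ?_) (Prod.ext k2.symm k5.symm)
  rw [e]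
  ext <;> simp [← k0, ← k1, ← k3, ← k4, k6]

/-- `α` generates the field with four elements. -/
structure GF4 (α : F) : Prop where
  n0 : α ≠ 0
  n1 : α ≠ 1
  sq : α * α = α + 1
  two : (1 : F) + 1 = 0
  all : ∀ s, s = 0 ∨ s = 1 ∨ s = α ∨ s = α + 1

theorem exists_F4 [Fintype F] (hF : Fintype.card F = 4) : ∃ α : F, GF4 α := by
  have : CharP F 2 := charP_of_card_eq_prime_pow (f := 2) hF
  have h : ∀ s : F, s ^ 4 = s := fun s => hF ▸ FiniteField.pow_card s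
  classical
  obtain ⟨α, h0⟩ : ∃ α : F, α ∉ ({0, 1} : Finset F) := by
    by_contra hc
    push Not at hc
    have := (Finset.card_le_card fun x (_ : x ∈ Finset.univ) => hc x).trans Finset.card_le_two
    rw [Finset.card_univ] at this
    omega
  simp only [Finset.mem_insert, Finset.mem_singleton, not_or] at h0
  have h1 := h α
  refine ⟨α, h0.1, h0.2, by grind, CharTwo.add_self_eq_zero 1, fun s => ?_⟩
  have h2 := h s
  grind

theorem GF4.ind {α : F} (h : GF4 α) {P : F → Prop} (h1 : P 1) (h2 : P α)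
    (h3 : ∀ s t, P s → P t → P (s + t)) (s : F) : P s := by
  rcases h.all s with rfl | rfl | rfl | rfl
  exacts [h.two ▸ h3 _ _ h1 h1, h1, h2, h3 _ _ h2 h1]

theorem GF4.par [Finite G] {α : F} (h : GF4 α) {P : Subgroup G} (sq : ∀ a ∈ P, a * a = 1)
    (h4 : Nat.card P = 4) {e f : G} (he : e ∈ P) (hf : f ∈ P) (e1 : e ≠ 1) (f1 : f ≠ 1)
    (ef : f ≠ e) : ∃ x : F → G, Par P x ∧ x 1 = e ∧ x α = f := by
  classical
  let x : F → G := fun s => if s = 0 then 1 else if s = 1 then e else if s = α then f else e * f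
  obtain ⟨a1, a2, -, a4, a5⟩ := h
  have x0 : x 0 = 1 := by simp [x]
  have x1 : x 1 = e := by simp [x]
  have x2 : x α = f := by simp [x, a1, a2]
  have x3 : x (α + 1) = e * f := by
    simp only [x]
    rw [if_neg (by grind), if_neg (by grind), if_neg (by grind)]
  have c : f * e = e * f := ea_cent (ea_of_sq sq) he f hf
  have e2 := sq e he
  have f2 := sq f hf
  have e3 : ∀ y, e * (e * y) = y := fun y => by rw [← mul_assoc, e2, one_mul]
  have f3 : ∀ y, f * (e * y) = e * (f * y) := fun y => by rw [← mul_assoc, c, mul_assoc]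
  have ef' : e * f ≠ 1 := fun k => ef (by rw [← e3 f, k, mul_one])
  refine ⟨x, ⟨fun s t => ?_, fun s => ?_, fun s => ?_, fun a ha => ?_⟩, x1, x2⟩
  · have k : ∀ {s t : F}, s = t → x s = x t := fun h => h ▸ rfl
    rcases a5 (s + t) with r | r | r | r <;> rw [r] <;> rcases a5 s with p | p | p | p <;>
      rcases a5 t with q | q | q | q <;>
      first
      | (exfalso; grind)
      | (rw [p, q]; simp only [x0, x1, x2, x3, mul_one, one_mul, mul_assoc, c, e2, f2, e3, f3])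
  · rcases a5 s with rfl | rfl | rfl | rfl
    exacts [x0 ▸ one_mem P, x1 ▸ he, x2 ▸ hf, x3 ▸ mul_mem he hf]
  · rcases a5 s with rfl | rfl | rfl | rfl <;> simp [x0, x1, x2, x3, e1, f1, ef']
  · rcases c3_four (ea_of_sq sq) h4 he hf ha e1 f1 ef with rfl | rfl | rfl | rfl
    exacts [⟨_, x0⟩, ⟨_, x1⟩, ⟨_, x2⟩, ⟨_, x3⟩]

theorem GF4.lin [Finite G] {α : F} (h : GF4 α) (ρ : G → F × F → F × F) (h0 : ∀ p, ρ 1 p = p)
    (h1 : ∀ g p q, ρ g (p + q) = ρ g p + ρ g q) (h3 : ∀ g g' p, ρ (g * g') p = ρ g (ρ g' p))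
    {S : Subgroup G} (hS : ¬ 2 ∣ S.index) (h4 : ∀ s ∈ S, ∀ p, ρ s (α • p) = α • ρ s p)
    (h5 : ∀ g p, p ≠ 0 → ∃ c : F, ρ g (α • p) = c • ρ g p) (g : G) (c : F) (p : F × F) :
    ρ g (c • p) = c • ρ g p := by
  have inj : ∀ g, Function.Injective (ρ g) := fun g p q e => by
    rw [← h0 p, ← h0 q, ← inv_mul_cancel g, h3, h3, e]
  have z : ∀ g, ρ g 0 = 0 := fun g => by simpa using h1 g 0 0
  have k1 : ∀ g p, ρ g (α • p) = α • ρ g p ∨ ρ g (α • p) = (α + 1) • ρ g p := fun g p => by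
    by_cases p0 : p = 0
    · simp [p0, z]
    obtain ⟨c, hc⟩ := h5 g p p0
    rcases h.all c with rfl | rfl | rfl | rfl
    · rw [zero_smul, ← z g] at hc
      exact (smul_ne_zero h.n0 p0 (inj g hc)).elim
    · rw [one_smul] at hc
      have := inj g hc
      rw [← sub_eq_zero, ← one_smul F p, smul_smul, mul_one, ← sub_smul] at this
      exact (smul_ne_zero (sub_ne_zero.2 h.n1) p0 this).elim
    exacts [Or.inl hc, Or.inr hc]
  have k2 : ∀ g, (∀ p, ρ g (α • p) = α • ρ g p) ∨ ∀ p, ρ g (α • p) = (α + 1) • ρ g p := fun g => by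
    by_contra hc
    push Not at hc
    obtain ⟨⟨p, hp⟩, q, hq⟩ := hc
    have e1 := (k1 g p).resolve_left hp
    have e2 := (k1 g q).resolve_right hq
    rcases k1 g (p + q) with e | e <;> rw [smul_add, h1, h1, smul_add] at e
    · exact hp (by rwa [e2, add_left_inj] at e)
    · exact hq (by rwa [e1, add_right_inj] at e)
  let L : Subgroup G :=
    { carrier := {g | ∀ p, ρ g (α • p) = α • ρ g p}
      one_mem' := fun p => by rw [h0, h0]
      mul_mem' := fun {a b} ha hb p => by rw [h3, h3, hb, ha]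
      inv_mem' := fun {a} ha p => inj a (by rw [ha, ← h3, ← h3, mul_inv_cancel, h0, h0]) }
  have hg : g ∈ L := by
    by_contra hg
    refine hS (Dvd.dvd.trans (Dvd.intro 1 ?_) (index_dvd_of_le (show S ≤ L from h4)))
    refine (index_eq_two_iff_exists_notMem_and.2 ⟨g, hg, fun b => (k2 b).symm.imp_left
      fun hb p => ?_⟩).symm
    rw [h3, h3, (k2 g).resolve_left hg, add_smul, one_smul, h1, hb, add_smul, one_smul, add_assoc,
      ← two_smul F, ← one_add_one_eq_two, h.two, zero_smul, add_zero]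
  induction c using h.ind with
  | h1 => simp
  | h2 => exact hg p
  | h3 s t hs ht => rw [add_smul, h1, hs, ht, add_smul]

variable [Finite G] {A B : Subgroup G}

/-- The five lines. -/
def Lin5 (A B U X : Subgroup G) : Prop := X = A ⊓ B ∨ ∃ b ∈ B, X = U ^ᶜ b

namespace L34

variable (h : L34 A B)
include h

theorem card_compl {U : Subgroup G} (h1 : A ⊓ B ⊓ U = ⊥) (h2 : A ⊓ B ⊔ U = A) : Nat.card U = 4 := by
  have := H2.card_sup_of_le_normalizer ((le_sup_right.trans h2.le).trans (le_sup_left.trans h.normZ))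
    (inf_comm _ U ▸ h1)
  rw [h2, h.cA, h.cZ] at this
  omega

omit [Finite G] in
theorem decU {U : Subgroup G} (h2 : A ⊓ B ⊔ U = A) {a : G} (ha : a ∈ A) :
    ∃ z ∈ A ⊓ B, ∃ u ∈ U, a = z * u :=
  (mem_sup_of_le_normalizer_left ((le_sup_right.trans h2.le).trans (le_sup_left.trans h.normZ))).1
    (h2.ge ha)

theorem exists_U (hO : pPrimeCore 2 G = ⊥) [A.Normal] : ∃ U : Subgroup G, A ⊓ B ⊓ U = ⊥ ∧
    A ⊓ B ⊔ U = A ∧ ∀ g X, Lin5 A B U X → Lin5 A B U (X ^ᶜ g) := by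
  have nA : ∀ g : G, g ∈ 𝐍(A) := fun g => le_normalizer_of_normal (mem_top g)
  by_cases hZ : ∀ g : G, (A ⊓ B) ^ᶜ g = A ⊓ B
  · have nS : ⊤ ≤ 𝐍((A ⊔ B : Subgroup G)) := fun g _ => by
      obtain ⟨c, hc, n, hn, rfl⟩ := h.dec_norm h.syl (mem_top g) (nA g) (cj_eq_self_iff.1 (hZ g))
      exact mul_mem (le_normalizer (mem_sup_left (h.cent_le' hO hc.2))) hn.2
    obtain ⟨k, hk⟩ := h.pS.exists_card_eq
    obtain ⟨H, -, h1, -, h2⟩ := H3.exists_complement_in le_top nS (by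
      rw [hk]
      exact Nat.Coprime.pow_left _ ((Nat.Prime.coprime_iff_not_dvd Nat.prime_two).2
        h.syl.not_dvd_relIndex))
    obtain ⟨U, hU, h3, h4, h5⟩ := H48.exists_invariant_compl h.ea (inf_le_left (b := B)) (A := H)
      (fun g _ => nA g) (fun g _ => cj_eq_self_iff.1 (hZ g))
      ((Nat.Prime.coprime_iff_not_dvd Nat.prime_two).2 (h2 ▸ h.syl.not_dvd_relIndex)).symm
    refine ⟨U, h4, h5, ?_⟩
    rintro g _ (rfl | ⟨b, hb, rfl⟩)
    · exact Or.inl (hZ g)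
    obtain ⟨s, hs, r, hr, e⟩ := (mem_sup_of_le_normalizer_left (le_top.trans nS)).1
      (h1.ge (mem_top (g * b)))
    obtain ⟨b', hb', a, ha, rfl⟩ := h.symm.dec (sup_comm A B ▸ hs)
    refine Or.inr ⟨b', hb', ?_⟩
    rw [cj_cj, e, ← cj_cj, cj_eq_of_mem_normalizer (h3 hr), ← cj_cj,
      cj_eq_of_mem_centralizer (centralizer_anti hU (ea_cent h.ea ha))]
  push Not at hZ
  obtain ⟨g, hg⟩ := hZ
  have hU : ∀ g, (A ⊓ B) ^ᶜ g ≤ A := fun g => cj_le_of_mem_normalizer inf_le_left (nA g)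
  have h1 : A ⊓ B ⊓ (A ⊓ B) ^ᶜ g = ⊥ := eq_bot_iff.2 fun d hd =>
    by_contra fun d1 => hg (h.ti hd.1 hd.2 d1)
  have h2 : A ⊓ B ⊔ (A ⊓ B) ^ᶜ g = A := eq_of_le_of_card_ge (sup_le inf_le_left (hU g)) (by
    rw [H2.card_sup_of_le_normalizer ((hU g).trans (le_sup_left.trans h.normZ)) ((inf_comm _ _).trans h1),
      card_cj, h.cA, h.cZ])
  have k : ∀ x, Lin5 A B ((A ⊓ B) ^ᶜ g) ((A ⊓ B) ^ᶜ x) := fun x => by
    obtain ⟨⟨d, hd⟩, d1⟩ := ne_bot_iff_exists_ne_one.1 h.Z_ne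
    have d1' : d ≠ 1 := fun e => d1 (Subtype.ext e)
    by_cases e : x * d * x⁻¹ ∈ B
    · exact Or.inl (h.ti ⟨hU x (cj_mem x hd), e⟩ (cj_mem x hd) (by simpa using d1'))
    obtain ⟨z, hz, u, hu, e'⟩ := h.decU h2 (hU x (cj_mem x hd))
    obtain ⟨b, hb, rfl⟩ := h.surjB (hU g hu) (fun c => e (e' ▸ B.mul_mem hz.2 c)) hz
    refine Or.inr ⟨b, hb, ?_⟩
    have := h.ti (g := x⁻¹ * (b * g)) hd (by
      rw [← cj_cj, ← cj_cj, mem_cj, inv_inv, e', h.comm hz.1 (hU g hu), ← h.conj_eq (hU g hu) hb]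
      exact cj_mem b hu) d1'
    rw [cj_cj, ← this, cj_cj, this, mul_inv_cancel_left]
  refine ⟨_, h1, h2, ?_⟩
  rintro x _ (rfl | ⟨b, hb, rfl⟩)
  · exact k x
  · rw [cj_cj, cj_cj]; exact k _

theorem affine [Fintype F] (hF : Fintype.card F = 4) (hO : pPrimeCore 2 G = ⊥) [A.Normal] :
    ∃ f : G →* GL (Fin 3) F ⧸ center (GL (Fin 3) F), Function.Injective f := by
  obtain ⟨α, hα⟩ := exists_F4 hF
  obtain ⟨U, u1, u2, hL⟩ := h.exists_U hO
  obtain ⟨W, hW, w1, w2⟩ := exists_compl h.symm.ea (inf_le_left (b := A))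
  have hU : U ≤ A := le_sup_right.trans u2.le
  have u3 : ∀ u ∈ U, u ∈ B → u = 1 := fun u hu e => mem_bot.1 (u1.le ⟨⟨hU hu, e⟩, hu⟩)
  have w3 : ∀ u ∈ W, u ∈ A → u = 1 := fun u hu e => mem_bot.1 (w1.le ⟨⟨hW hu, e⟩, hu⟩)
  have sqZ : ∀ z ∈ A ⊓ B, z * z = 1 := fun z hz => h.sqA z hz.1
  have nd : ∀ u ∈ U, ∀ w ∈ W, ⁅u, w⁆ = 1 → u = 1 ∨ w = 1 := fun u hu w hw e =>
    (h.nc u (hU hu) w (hW hw) (cm_eq_one.1 e)).imp (u3 u hu) (w3 w hw)
  have ne : ∀ {x y : G}, y * y = 1 → x * y ≠ 1 → x ≠ y := fun e c k => c (k ▸ e)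
  have ne' : ∀ {x y : G}, y * y = 1 → x ≠ y → x * y ≠ 1 := fun {x y} e c k =>
    c (mul_right_cancel (k.trans e.symm))
  have ex : ∀ {P : Subgroup G}, Nat.card P = 4 → ∃ e ∈ P, ∃ f ∈ P, e ≠ 1 ∧ f ≠ 1 ∧ f ≠ e :=
    fun {P} c => by
      have := Fintype.ofFinite P
      obtain ⟨x, hx⟩ := (Fintype.two_lt_card_iff (α := P)).1 (by rw [← Nat.card_eq_fintype_card]; omega)
      obtain ⟨y, z, h1, h2, h3⟩ := hx
      exact ⟨_, mul_mem (inv_mem x.2) y.2, _, mul_mem (inv_mem x.2) z.2,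
        by simpa [inv_mul_eq_one] using h1, by simpa [inv_mul_eq_one] using h2, by simpa using h3.symm⟩
  obtain ⟨b, hb, b', hb', b1, b1', bb⟩ := ex (h.symm.card_compl w1 w2)
  obtain ⟨e, he, -, -, e1, -⟩ := ex (h.card_compl u1 u2)
  have m := fun {u w : G} (hu : u ∈ U) (hw : w ∈ W) => h.cm_mem (hU hu) (hW hw)
  have n := fun {u w : G} (hu : u ∈ U) (hw : w ∈ W) (u1 : u ≠ 1) (w1 : w ≠ 1) =>
    mt (nd u hu w hw) (not_or.2 ⟨u1, w1⟩)
  have bb' := ne' (h.sqB b (hW hb)) bb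
  have zz : ⁅e, b'⁆ ≠ ⁅e, b⁆ := ne (sqZ _ (m he hb)) (by
    rw [← h.cm_mul_r (hU he) (hW hb') (hW hb)]; exact n he (mul_mem hb' hb) e1 bb')
  obtain ⟨f, hf, ef⟩ : ∃ f ∈ U, ⁅f, b⁆ = ⁅e, b'⁆ := by
    obtain ⟨a, ha, c⟩ := h.surjA (hW hb) (fun c => b1 (w3 b hb c)) (m he hb')
    obtain ⟨z, hz, u, hu, rfl⟩ := h.decU u2 ha
    rw [h.cm_mul_l hz.1 (hU hu) (hW hb), h.cm_one_l hz.2 (hW hb), one_mul] at c
    exact ⟨u, hu, c⟩
  have f1 : f ≠ 1 := fun c => n he hb' e1 b1' (by rw [← ef, c, commutatorElement_one_left])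
  have fe : f ≠ e := fun c => zz (by rw [← ef, c])
  have ff : ⁅f, b'⁆ = ⁅e, b⁆ * ⁅e, b'⁆ := by
    rcases c3_four (ea_of_sq sqZ) h.cZ (m he hb) (m he hb') (m hf hb') (n he hb e1 b1)
      (n he hb' e1 b1') zz with c | c | c | c
    · exact (n hf hb' f1 b1' c).elim
    · refine (n (mul_mem hf he) (mul_mem hb' hb) (ne' (h.sqA e (hU he)) fe) bb' ?_).elim
      rw [h.cm_mul_l (hU hf) (hU he) (hW (mul_mem hb' hb)), h.cm_mul_r (hU hf) (hW hb') (hW hb),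
        h.cm_mul_r (hU he) (hW hb') (hW hb), c, ef, mul_assoc, ← mul_assoc ⁅e, b'⁆,
        sqZ _ (m he hb'), one_mul, sqZ _ (m he hb)]
    · refine (n hf (mul_mem hb' hb) f1 bb' ?_).elim
      rw [h.cm_mul_r (hU hf) (hW hb') (hW hb), c, ef, sqZ _ (m he hb')]
    · exact c
  obtain ⟨u, pu, u4, u5⟩ := hα.par (fun a ha => h.sqA a (hU ha)) (h.card_compl u1 u2) he hf e1 f1 fe
  obtain ⟨w, pw, w4, w5⟩ :=
    hα.par (fun a ha => h.sqB a (hW ha)) (h.symm.card_compl w1 w2) hb hb' b1 b1' bb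
  obtain ⟨z, pz, z4, z5⟩ := hα.par sqZ h.cZ (m he hb) (m he hb') (n he hb e1 b1) (n he hb' e1 b1') zz
  have cm : ∀ s t, ⁅u s, w t⁆ = z (s * t) := fun s t => by
    induction s using hα.ind with
    | h3 s s' hs hs' =>
      rw [← pu.add, h.cm_mul_l (hU (pu.mem _)) (hU (pu.mem _)) (hW (pw.mem _)), hs, hs', pz.add,
        add_mul]
    | _ =>
      induction t using hα.ind with
      | h3 t t' ht ht' =>
        rw [← pw.add, h.cm_mul_r (hU (pu.mem _)) (hW (pw.mem _)) (hW (pw.mem _)), ht, ht', pz.add,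
          mul_add]
      | _ => simp only [one_mul, mul_one, hα.sq, add_comm α, ← pz.add, u4, u5, w4, w5, z4, z5, ef, ff]
  let ψ : F × F → G := fun p => z p.1 * u p.2
  have ψm : ∀ p, ψ p ∈ A := fun p => mul_mem (pz.mem _).1 (hU (pu.mem _))
  have ψa : ∀ p q, ψ (p + q) = ψ p * ψ q := fun p q => by
    simp only [ψ, Prod.fst_add, Prod.snd_add, ← pz.add, ← pu.add, mul_assoc]
    rw [← mul_assoc (z q.1), h.comm (pz.mem _).1 (hU (pu.mem p.2)), mul_assoc]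
  have ψi : Function.Injective ψ := fun p q c => by
    have k : ψ (p - q) = 1 := mul_right_cancel (b := ψ q) (by rw [← ψa, sub_add_cancel, c, one_mul])
    have k2 := u3 _ (pu.mem (p - q).2) (by
      simpa [ψ] using B.mul_mem (B.inv_mem (pz.mem (p - q).1).2) (k ▸ one_mem B : ψ (p - q) ∈ B))
    exact sub_eq_zero.1 (Prod.ext (pz.inj _ (by simpa [ψ, -Prod.snd_sub, k2] using k)) (pu.inj _ k2))
  have ψs : ∀ a ∈ A, ∃ p, ψ p = a := fun a ha => by
    obtain ⟨_, hz, _, hu, rfl⟩ := h.decU u2 ha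
    obtain ⟨s, rfl⟩ := pz.surj _ hz
    obtain ⟨t, rfl⟩ := pu.surj _ hu
    exact ⟨(s, t), rfl⟩
  have ψ0 : ψ 0 = 1 := by simp [ψ, pz.zero, pu.zero]
  have ψw : ∀ r s t, w r * ψ (s, t) * (w r)⁻¹ = ψ (s + t * r, t) := fun r s t => by
    rw [h.conj_eq (ψm _) (hW (pw.mem r))]
    simp only [ψ]
    rw [h.cm_mul_l (pz.mem _).1 (hU (pu.mem _)) (hW (pw.mem _)),
      h.cm_one_l (pz.mem _).2 (hW (pw.mem _)), one_mul, cm, ← pz.add, mul_assoc, mul_assoc,
      h.comm (pz.mem _).1 (hU (pu.mem t))]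
  choose ρ hρ using fun (g : G) p => ψs _ (Normal.conj_mem inferInstance _ (ψm p) g)
  have ρ0 : ∀ g ∈ A, ∀ p, ρ g p = p := fun g hg p => ψi (by
    rw [hρ, h.comm hg (ψm p), mul_inv_cancel_right])
  have ρ1 : ∀ g p q, ρ g (p + q) = ρ g p + ρ g q := fun g p q => ψi (by
    rw [ψa, hρ, hρ, hρ, ψa, conj_mul])
  have ρ2 : ∀ g g' p, ρ (g * g') p = ρ g (ρ g' p) := fun g g' p => ψi (by
    rw [hρ, hρ, hρ]; group)
  have decB : ∀ b ∈ B, ∃ a ∈ A, ∃ r, b = w r * a := fun b hb => by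
    obtain ⟨a, ha, _, hw, rfl⟩ := h.symm.decU w2 hb
    obtain ⟨r, rfl⟩ := pw.surj _ hw
    exact ⟨a, ha.2, r, h.symm.comm ha.1 (hW hw)⟩
  have mZ : ∀ p, ψ p ∈ A ⊓ B ↔ p.2 = 0 := fun p => ⟨fun c => pu.inj _ (u3 _ (pu.mem _) (by
    simpa [ψ] using B.mul_mem (B.inv_mem (pz.mem p.1).2) c.2)),
    fun c => by simpa [ψ, c, pu.zero] using pz.mem p.1⟩
  have mU : ∀ r p, ψ p ∈ U ^ᶜ w r ↔ p.1 = p.2 * r := fun r p => by
    have k : ∀ t, w r * u t * (w r)⁻¹ = ψ (t * r, t) := fun t => by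
      simpa [ψ, pz.zero] using ψw r 0 t
    refine ⟨fun c => ?_, fun c => ?_⟩
    · obtain ⟨_, hu, c⟩ := mem_cj'.1 c
      obtain ⟨t, rfl⟩ := pu.surj _ hu
      rw [ψi (c.trans (k t))]
    · rw [show p = (p.2 * r, p.2) from Prod.ext c rfl, ← k]
      exact cj_mem _ (pu.mem _)
  have hS : ¬ 2 ∣ (A ⊔ B).index := by simpa using h.syl.not_dvd_relIndex
  have lin := hα.lin ρ (ρ0 1 (one_mem A)) ρ1 ρ2 hS (fun s hs p => by
    obtain ⟨a, ha, b, hb, rfl⟩ := h.dec hs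
    obtain ⟨a', ha', r, rfl⟩ := decB b hb
    have k : ∀ p, ρ (w r) p = (p.1 + p.2 * r, p.2) := fun p => ψi (by rw [hρ, ψw])
    simp only [ρ2, ρ0 a ha, ρ0 a' ha', k]
    ext <;> simp [mul_add, mul_assoc]) fun g p p0 => by
      obtain ⟨X, hX, x1, x2⟩ : ∃ X, Lin5 A B U X ∧ ψ p ∈ X ∧ ψ (α • p) ∈ X := by
        by_cases c : p.2 = 0
        · exact ⟨_, Or.inl rfl, (mZ _).2 c, (mZ _).2 (by simp [c])⟩
        · exact ⟨_, Or.inr ⟨_, hW (pw.mem (p.1 / p.2)), rfl⟩, (mU _ _).2 (by field_simp),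
            (mU _ _).2 (by simp only [Prod.smul_fst, Prod.smul_snd, smul_eq_mul]; field_simp)⟩
      have y1 := cj_mem g x1
      have y2 := cj_mem g x2
      have y0 : ρ g p ≠ 0 := fun c => p0 (ψi (by
        have := hρ g p
        rw [c, ψ0, eq_comm, conj_eq_one_iff] at this
        rw [this, ψ0]))
      rw [← hρ] at y1 y2
      generalize ρ g p = q at y0 y1
      generalize ρ g (α • p) = q' at y2
      rcases hL g X hX with c | ⟨b, hb, c⟩ <;> rw [c] at y1 y2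
      · rw [mZ] at y1 y2
        have : q.1 ≠ 0 := fun c => y0 (Prod.ext c y1)
        exact ⟨q'.1 / q.1, Prod.ext (by simp [this]) (by simp [y1, y2])⟩
      · obtain ⟨a, ha, r, rfl⟩ := decB b hb
        rw [← cj_cj, cj_eq_of_mem_centralizer (centralizer_anti hU (ea_cent h.ea ha)), mU] at y1 y2
        have : q.2 ≠ 0 := fun c => y0 (Prod.ext (by simp [y1, c]) c)
        exact ⟨q'.2 / q.2, Prod.ext (by simp only [y1, y2, Prod.smul_fst, smul_eq_mul]; field_simp)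
          (by simp [this])⟩
  haveI := h.ea.1
  obtain ⟨k, hk⟩ := h.pA.exists_card_eq
  obtain ⟨L, hL⟩ := H3.gaschuetz_exists A (A ⊔ B) le_sup_left
    (hk ▸ Nat.Coprime.pow_left _ ((Nat.Prime.coprime_iff_not_dvd Nat.prime_two).2 hS)) W
    (eq_bot_iff.2 fun x hx => w3 x hx.1 hx.2) (by
      conv_rhs => rw [← w2, ← sup_assoc, sup_eq_left.2 (inf_le_right : B ⊓ A ≤ A)])
  have hv : ∀ g : G, ∃ p, (ψ p)⁻¹ * g ∈ L := fun g => by
    obtain ⟨⟨a, l⟩, rfl⟩ := hL.2 g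
    obtain ⟨p, hp⟩ := ψs a a.2
    exact ⟨p, by simp [hp]⟩
  choose v hv using hv
  have uq : ∀ g p, (ψ p)⁻¹ * g ∈ L → v g = p := fun g p c => ψi (by
    have := disjoint_def.1 hL.disjoint (A.mul_mem (A.inv_mem (ψm (v g))) (ψm p)) (by
      simpa [mul_assoc] using L.mul_mem (hv g) (L.inv_mem c))
    exact inv_mul_eq_one.1 this)
  refine Two.affine ρ v (ρ0 1 (one_mem A)) (uq _ _ (by simp [ψ0])) ρ1 lin ρ2
    (fun g g' => uq _ _ ?_) fun g c1 c2 => ?_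
  · have := L.mul_mem (hv g) (hv g')
    rw [add_comm, ψa, hρ]
    convert this using 1
    group
  · refine disjoint_def.1 hL.disjoint (h.cent_le' hO fun a ha => ?_) (by simpa [c2, ψ0] using hv g)
    obtain ⟨p, rfl⟩ := ψs a ha
    rw [eq_comm, ← mul_inv_eq_iff_eq_mul, ← hρ, c1]

end L34

end H55.Two
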