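import Cfsg.Agent.Lib.TE.Sy

/-! # Sylow 2-subgroups of type `L₃(4)`: the strongly closed case -/

set_option autoImplicit false
set_option maxHeartbeats 200000

namespace H55.Two

open Subgroup Cfsg H69 H45 Gold H55.SylT
open scoped commutatorElement

universe u
variable {G : Type u} [Group G]

/-- Sylow 2-subgroups of type `L₃(4)`. -/
structure L34 (A B : Subgroup G) : Prop extends TE A B where
  syl : IsSylowIn 2 (A ⊔ B) ⊤
  cA : Nat.card A = 16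
  cB : Nat.card B = 16
  cZ : Nat.card (A ⊓ B : Subgroup G) = 4

/-- `y` stabilizes the chain `A > Z > 1`. -/
def St (A Z : Subgroup G) (y : G) : Prop := (∀ a ∈ A, y * a * y⁻¹ * a⁻¹ ∈ Z) ∧ y ∈ 𝐂(Z)

theorem St.sq {A Z : Subgroup G} {x y : G} (hx : St A Z x) (hy : St A Z y)
    (sq : ∀ z ∈ Z, z * z = 1) : x * y * (x * y) ∈ 𝐂(A) := fun a ha => by
  have k : ∀ {x a z : G}, St A Z x → z ∈ Z → x * (z * a) * x⁻¹ = z * (x * a * x⁻¹) :=
    fun {x a z} hx hz => by rw [← mul_assoc, ← hx.2 z hz]; group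
  have e1 : x * a * x⁻¹ = x * a * x⁻¹ * a⁻¹ * a := by group
  have e2 : y * a * y⁻¹ = y * a * y⁻¹ * a⁻¹ * a := by group
  have h1 := hx.1 a ha
  have h2 := hy.1 a ha
  generalize x * a * x⁻¹ * a⁻¹ = z at e1 h1
  generalize y * a * y⁻¹ * a⁻¹ = w at e2 h2
  have e3 : x * y * a * (x * y)⁻¹ = w * z * a := by
    rw [show x * y * a * (x * y)⁻¹ = x * (y * a * y⁻¹) * x⁻¹ by group, e2, k hx h2, e1, mul_assoc]
  have hc : x * y * (w * z) = w * z * (x * y) := ((mul_mem hx.2 hy.2) _ (mul_mem h2 h1)).symm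
  calc a * (x * y * (x * y)) = w * z * (w * z) * a * (x * y * (x * y)) := by
        rw [sq _ (mul_mem h2 h1), one_mul]
    _ = w * z * (x * y * a * (x * y)⁻¹) * (x * y * (x * y)) := by rw [e3]; group
    _ = (w * z * (x * y)) * a * (x * y) := by group
    _ = x * y * (w * z * a) * (x * y) := by rw [← hc]; group
    _ = _ := by rw [← e3]; group

variable [Finite G] {A B : Subgroup G}

theorem odd_cent {K C : Subgroup G} (hA : IsSylowIn 2 A K) (hC : A ≤ C) {x : G} (hx : x ∈ K)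
    (hn : x ∈ 𝐍(A)) (h2 : x * x ∈ C) : x ∈ C := by
  obtain ⟨k, m, ⟨j, rfl⟩, e⟩ := Nat.exists_eq_two_pow_mul_odd (orderOf_pos x).ne'
  have h1 : x ^ (2 * j + 1) ∈ A := mem_syl_of_el2 hA (pow_mem hx _) (pow_mem hn _)
    ⟨k, by rw [← pow_mul, mul_comm, ← e, pow_orderOf_eq_one]⟩
  have := mul_mem (inv_mem (pow_mem h2 j)) (hC h1)
  rwa [pow_succ, pow_mul, pow_two, inv_mul_cancel_left] at this

namespace L34

variable (h : L34 A B)
include h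

omit [Finite G] in
theorem symm : L34 B A :=
  ⟨h.toTE.symm, sup_comm A B ▸ h.syl, h.cB, h.cA, inf_comm A B ▸ h.cZ⟩

theorem surjB {a z : G} (ha : a ∈ A) (haB : a ∉ B) (hz : z ∈ A ⊓ B) : ∃ b ∈ B, ⁅a, b⁆ = z := by
  have h1 := h.card_cmH ha haB
  rw [h.cZ, h.cB] at h1
  exact (h.mem_cmH ha).1 ((eq_of_le_of_card_ge (h.cmH_le ha) (by rw [h.cZ]; omega)).ge hz)

theorem surjA {b z : G} (hb : b ∈ B) (hbA : b ∉ A) (hz : z ∈ A ⊓ B) : ∃ a ∈ A, ⁅a, b⁆ = z := by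
  obtain ⟨a, ha, e⟩ := h.symm.surjB hb hbA hz.symm
  exact ⟨a, ha, (h.cm_symm ha hb).symm.trans e⟩

theorem normZ' {M : Subgroup G} (hn : M ≤ 𝐍(A)) (hB : B ≤ 𝐍(M)) (ho : ¬ 2 ∣ A.relIndex M) :
    M ≤ 𝐍((A ⊓ B : Subgroup G)) := by
  have he := ea_im (coset A) h.symm.ea
  have h4 := card_quotient_mul_inf h.nA
  rw [inf_comm, h.cZ, h.cB] at h4
  refine (quotientSGK hn (le_sup_left.trans h.normZ)).1 (H2.le_of_forall_centralizer_le he.1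
    (H43.ea_not_isCyclic he (by change _ ≤ Nat.card (B /ₙ A); omega)) (quotient_norms A hB)
    (H43.ea_coprime he (by rwa [card_quotient hn])) fun y hy y1 x hx => ?_)
  obtain ⟨b, hb, rfl⟩ := (mem_im_of_le _ h.nA).1 hy
  obtain ⟨m, hm, rfl⟩ := (mem_im_of_le _ hn).1 hx.1
  have hbA : b ∉ A := fun e => y1 (coset_id e)
  have e := mem_cent1_iff.1 hx.2
  rw [← ap_mul _ (hn hm) (h.nA hb), ← ap_mul _ (h.nA hb) (hn hm),
    coset_eq_iff (mul_mem (hn hm) (h.nA hb)) (mul_mem (h.nA hb) (hn hm))] at e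
  refine mem_quotient A (inv_mem_iff.1 (mem_normalizer_of_cj_le fun w hw => ?_))
  obtain ⟨z, hz, rfl⟩ := mem_cj'.1 hw
  have h1 := conj_mem_of_mem_normalizer (inv_mem (hn hm)) hz.1
  refine ⟨h1, (h.comm_iff (mem_sup_right hb) hbA h1).1 ?_⟩
  have h2 := h.comm e h1
  have h3 := h.symm.comm hb hz.2
  calc b * (m⁻¹ * z * m⁻¹⁻¹) = b * (m⁻¹ * z * m⁻¹⁻¹ * ((m * b)⁻¹ * (b * m))) * m⁻¹ * b⁻¹ * m * b := by
        group
    _ = m⁻¹ * (b * z) * b⁻¹ * m * b := by rw [← h2]; group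
    _ = _ := by rw [h3]; group

theorem normal (hO : pPrimeCore 2 G = ⊥) (sc : SC A ⊤) : A.Normal := by
  have c := Gold.ctx h.ea sc
  have hA := h.syl_ncl h.syl sc
  have := normal_of_no_fac c fun C hC => ?_
  · rwa [hO, sup_bot_eq] at this
  have hK : ⊤ ≤ 𝐍(ncl A ⊤) := le_normalizer_ncl _ _
  have hO' : Od (ncl A ⊤) = ⊥ := eq_bot_iff.2 (hO ▸ Od_top (G := G) ▸ Od_le_Od le_top hK)
  have hM : ncl A ⊤ ⊓ 𝐍(A) ≤ 𝐍((A ⊓ B : Subgroup G)) := h.normZ' inf_le_right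
    (le_normalizer_inf (le_top.trans hK) (le_normalizer_of_le h.nA))
    (hA.mono (le_inf c.le_K le_normalizer) inf_le_left).not_dvd_relIndex
  have sq : ∀ z ∈ A ⊓ B, z * z = 1 := fun z hz => h.sqA z hz.1
  have eqv : ∀ g ∈ ncl A ⊤ ⊓ 𝐍(A), ∀ a ∈ A, ∀ b ∈ B, g * ⁅a, b⁆ * g⁻¹ = ⁅g * a * g⁻¹, b⁆ :=
    fun g hg a ha b hb => by
      have k : ∀ g ∈ ncl A ⊤ ⊓ 𝐍(A), St A (A ⊓ B) (g * b * g⁻¹) := fun g hg =>
        ⟨fun a ha => h.fix_cm h.syl (mem_top _) (mul_mem (mul_mem hg.2 (h.nA hb)) (inv_mem hg.2))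
          (mul_mem (mul_mem (hM hg) (h.normZ (mem_sup_right hb))) (inv_mem (hM hg)))
          ((El2.of_mul_self (h.sqB b hb)).conj g) ha,
        conj_mem_of_mem_normalizer (normalizer_le_normalizer_centralizer _ (hM hg))
          (h.le_centZ (mem_sup_right hb))⟩
      have h1 := (k g hg).sq (k 1 (one_mem _)) sq
      rw [one_mul, inv_one, mul_one] at h1
      have h2 := odd_cent hA (ea_cent h.ea) (by
        rw [mul_assoc, mul_assoc]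
        exact mul_mem hg.1 (by
          simpa [h.symm.inv hb, mul_assoc] using
            conj_mem_of_mem_normalizer (hK (mem_top b)) (inv_mem hg.1)))
        (mul_mem (mul_mem (mul_mem hg.2 (h.nA hb)) (inv_mem hg.2)) (h.nA hb)) h1
      have h3 := conj_mem_of_mem_normalizer hg.2 ha
      rw [conj_cm, show g * b * g⁻¹ = g * b * g⁻¹ * b * b by
        rw [mul_assoc _ b b, h.sqB b hb, mul_one],
        cm_mul_right (h2 _ (h.cm_mem h3 hb).1).symm, cm_eq_one.2 (h2 _ h3), one_mul]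
  obtain ⟨b0, hb0, hb0A⟩ := h.symm.exA
  obtain ⟨a0, ha0, ha0B⟩ := h.exA
  by_cases hD : A ⊓ C = ⊥
  · have n : ∀ a ∈ A, a ∈ C → a = 1 := fun a ha e => mem_bot.1 (hD.le ⟨ha, e⟩)
    obtain ⟨⟨z, hz⟩, z1⟩ := ne_bot_iff_exists_ne_one.1 h.Z_ne
    obtain ⟨g, hg, -, e⟩ := c.trans hC hz.1 (fun e => z1 (Subtype.ext (n z hz.1 e))) ha0
      fun e => ha0B (n a0 ha0 e ▸ one_mem B)
    have := n _ (mul_mem (conj_mem_of_mem_normalizer hg.2 hz.1) (inv_mem ha0)) e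
    rw [mul_inv_eq_one] at this
    exact ha0B (this ▸ (conj_mem_of_mem_normalizer (hM ⟨hg.1.1, hg.2⟩) hz).2)
  obtain ⟨⟨d, hd⟩, d1⟩ := ne_bot_iff_exists_ne_one.1 hD
  obtain ⟨a, ha, ha'⟩ := SetLike.not_le_iff_exists.1 (c.not_le hC)
  obtain ⟨b, hb, hb', hab⟩ := exists_not_mem_two c.ea (c.four_le hC) ha
  obtain ⟨g, hg, -, e⟩ := c.trans hC ha ha' hb hb'
  have hg' : g ∈ ncl A ⊤ ⊓ 𝐍(A) := ⟨hg.1.1, hg.2⟩
  have e1 : g * d * g⁻¹ = d := by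
    have := (mem_LC.1 hg.1).2 d hd.2
    rwa [hO', mem_bot, commutatorElement_def, mul_inv_eq_one] at this
  obtain ⟨z, hz, z1, ez⟩ : ∃ z ∈ A ⊓ B, z ≠ 1 ∧ g * z * g⁻¹ = z := by
    by_cases hdB : d ∈ B
    · exact ⟨d, ⟨hd.1, hdB⟩, fun e => d1 (Subtype.ext e), e1⟩
    · exact ⟨_, h.cm_mem hd.1 hb0, fun e => (h.nc d hd.1 b0 hb0 (cm_eq_one.1 e)).elim hdB hb0A,
        by rw [eqv g hg' d hd.1 b0 hb0, e1]⟩
  have s1 : ∀ a ∈ A, g * a * g⁻¹ * a⁻¹ ∈ A ⊓ B := fun a ha => by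
    have h3 := conj_mem_of_mem_normalizer hg.2 ha
    by_cases haB : a ∈ B
    · exact mul_mem (conj_mem_of_mem_normalizer (hM hg') ⟨ha, haB⟩) (inv_mem ⟨ha, haB⟩)
    obtain ⟨b, hb, rfl⟩ := h.surjB ha haB hz
    rw [h.inv ha]
    refine ⟨A.mul_mem h3 ha, (h.nc _ (A.mul_mem h3 ha) b hb (cm_eq_one.1 ?_)).resolve_right
      fun e => z1 (h.cm_one_r ha e)⟩
    rw [h.cm_mul_l h3 ha hb, ← eqv g hg' a ha b hb, ez, sq _ hz]
  have s2 : St A (A ⊓ B) g := ⟨s1, fun w hw => by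
    obtain ⟨b, hb, rfl⟩ := h.surjB ha0 ha0B hw
    rw [eq_comm, ← mul_inv_eq_iff_eq_mul, eqv g hg' a0 ha0 b hb,
      show g * a0 * g⁻¹ = g * a0 * g⁻¹ * a0⁻¹ * a0 by group, h.cm_mul_l (s1 a0 ha0).1 ha0 hb,
      h.cm_one_l (s1 a0 ha0).2 hb, one_mul]⟩
  have h1 := s2.sq (y := 1) ⟨fun a _ => by simp, one_mem _⟩ sq
  rw [mul_one] at h1
  rw [conj_eq_of_mem_centralizer (odd_cent hA (ea_cent h.ea) hg.1.1 hg.2 h1) ha, h.inv hb] at e
  exact hab e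

theorem cent_le' (hO : pPrimeCore 2 G = ⊥) [A.Normal] : 𝐂(A) ≤ A := by
  have h1 : Od 𝐂(A) = ⊥ :=
    eq_bot_iff.2 (hO ▸ Od_top (G := G) ▸ Od_le_Od le_top le_normalizer_of_normal)
  simpa [h1] using h.cent_le h.syl

theorem ti [A.Normal] {g d : G} (hd : d ∈ A ⊓ B) (hd' : d ∈ (A ⊓ B) ^ᶜ g) (d1 : d ≠ 1) :
    (A ⊓ B) ^ᶜ g = A ⊓ B := by
  have hg : g ∈ 𝐍(A) := le_normalizer_of_normal (mem_top g)
  have h' := h.cjN hg
  have hS : IsSylowIn 2 (A ⊔ B ^ᶜ g) ⊤ := by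
    have := h.syl.cj g
    rwa [cj_top, cj_sup, cj_eq_of_mem_normalizer hg] at this
  refine eq_of_le_of_card_ge (fun x hx => ?_) (card_cj _ g).ge
  rw [← h.inf_cj hg] at hx hd'
  by_contra hxB
  obtain ⟨b, hb, e⟩ := h.surjB hx.1 (fun e => hxB ⟨hx.1, e⟩) hd
  have hbA : b ∉ A := fun c => d1 (e ▸ h.cm_one_r hx.1 c)
  have c4 : Nat.card (A ⊓ B ^ᶜ g : Subgroup G) = 4 := by rw [h.inf_cj hg, card_cj, h.cZ]
  have n : b ∈ 𝐍((A ⊓ B ^ᶜ g : Subgroup G)) := mem_normalizer_of_cj_le fun w hw => by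
    obtain ⟨y, hy, rfl⟩ := mem_cj'.1 hw
    rw [h.conj_eq hy.1 hb]
    refine mul_mem hy ?_
    rcases c3_four (ea_of_sq fun a (ha : a ∈ A ⊓ B ^ᶜ g) => h.sqA a ha.1) c4 hd' hx hy d1
      (fun e => hxB (e ▸ one_mem _)) (fun e => hxB (e ▸ hd)) with rfl | rfl | rfl | rfl
    · simp
    · exact h.cm_one_l hd.2 hb ▸ one_mem _
    · exact e ▸ hd'
    · rwa [h.cm_mul_l hd.1 hx.1 hb, h.cm_one_l hd.2 hb, one_mul, e]
  have := (h'.fix hS (mem_top b) (h.nA hb) n (El2.of_mul_self (h.sqB b hb)) hbA hx.1).2 hx.2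
  exact d1 (e ▸ cm_eq_one.2 this.symm)

end L34

end H55.Two
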